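import Mathlib
import Cfsg.Prelude.Def_Classical
import Cfsg.Agent.Lib.Sp.Group
import Cfsg.Agent.Lib.Sp.Decomp
import Cfsg.Agent.Lib.SpecLin.PSLOrders

/-!
Elements of known order in symplectic groups: block sums, tori of order `q^h ± 1`, regular unipotents.
-/

set_option autoImplicit false

namespace CfsgLib.SpecSp

open Matrix CfsgLib.SpecLin

variable {F : Type*} [Field F]

local notation "Sp[" k "]" => Matrix.symplecticGroup (Fin k) F

/-- index equivalence for block sums -/
def sumIdx {a b n : ℕ} (h : a + b = n) :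
    (Fin a ⊕ Fin a) ⊕ (Fin b ⊕ Fin b) ≃ Fin n ⊕ Fin n :=
  (Equiv.sumSumSumComm (Fin a) (Fin a) (Fin b) (Fin b)).trans
    (Equiv.sumCongr (finSumFinEquiv.trans (finCongr h)) (finSumFinEquiv.trans (finCongr h)))

theorem J_sumIdx {a b n : ℕ} (h : a + b = n) :
    (Matrix.fromBlocks (J (Fin a) F) 0 0 (J (Fin b) F)).submatrix (sumIdx h).symm (sumIdx h).symm =
      J (Fin n) F := by
  subst h
  ext i j
  obtain ⟨i, rfl⟩ := (sumIdx (rfl : a + b = a + b)).surjective i
  obtain ⟨j, rfl⟩ := (sumIdx (rfl : a + b = a + b)).surjective j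
  rw [Matrix.submatrix_apply, Equiv.symm_apply_apply, Equiv.symm_apply_apply]
  rcases i with (i | i) | (i | i) <;> rcases j with (j | j) | (j | j) <;>
    simp [sumIdx, J, Matrix.one_apply, Fin.ext_iff] <;> omega

/-- `A ⊕ B` -/
def bsum {a b n : ℕ} (h : a + b = n) : Sp[a] × Sp[b] →* Sp[n] where
  toFun x := ⟨(Matrix.fromBlocks x.1.1 0 0 x.2.1).submatrix (sumIdx h).symm (sumIdx h).symm, by
    rw [SymplecticGroup.mem_iff, ← J_sumIdx h, Matrix.transpose_submatrix, Matrix.submatrix_mul_equiv,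
      Matrix.submatrix_mul_equiv, Matrix.fromBlocks_transpose, Matrix.fromBlocks_multiply,
      Matrix.fromBlocks_multiply]
    simp only [Matrix.transpose_zero, Matrix.mul_zero, Matrix.zero_mul, add_zero, zero_add]
    rw [SymplecticGroup.mem_iff.1 x.1.2, SymplecticGroup.mem_iff.1 x.2.2]⟩
  map_one' := by
    apply Subtype.ext
    simp [Matrix.fromBlocks_one, Matrix.submatrix_one_equiv]
  map_mul' x y := by
    apply Subtype.ext
    simp [Matrix.submatrix_mul_equiv, Matrix.fromBlocks_multiply]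

theorem bsum_val {a b n : ℕ} (h : a + b = n) (x : Sp[a] × Sp[b]) :
    (bsum h x).1 = (Matrix.fromBlocks x.1.1 0 0 x.2.1).submatrix (sumIdx h).symm (sumIdx h).symm := rfl

theorem bsum_eq_smul_one {a b n : ℕ} (h : a + b = n) {x : Sp[a] × Sp[b]} {s : F}
    (hx : (bsum h x).1 = s • 1) : x.1.1 = s • 1 ∧ x.2.1 = s • 1 := by
  have h' := congrArg (fun T => T.submatrix (sumIdx h) (sumIdx h)) hx
  simp only [bsum_val, Matrix.submatrix_submatrix, Equiv.symm_comp_self, Matrix.submatrix_id_id] at h'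
  have e : ((s • (1 : Matrix (Fin n ⊕ Fin n) (Fin n ⊕ Fin n) F))).submatrix (sumIdx h) (sumIdx h) =
      Matrix.fromBlocks (s • 1) 0 0 (s • 1) := by
    ext i j
    rcases i with i | i <;> rcases j with j | j <;> simp [Matrix.one_apply]
  rw [e] at h'
  obtain ⟨h1, -, -, h2⟩ := Matrix.fromBlocks_inj.1 h'
  exact ⟨h1, h2⟩

/-- `A ↦ diag(A, A⁻ᵀ)` -/
def glEmb (k : ℕ) : GL (Fin k) F →* Sp[k] where
  toFun A := ⟨Matrix.fromBlocks (A : Matrix (Fin k) (Fin k) F) 0 0
      ((A⁻¹ : GL (Fin k) F) : Matrix (Fin k) (Fin k) F)ᵀ, by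
    have h1 : (A : Matrix (Fin k) (Fin k) F) * ((A⁻¹ : GL (Fin k) F) : Matrix (Fin k) (Fin k) F) = 1 :=
      A.mul_inv
    rw [SymplecticGroup.mem_iff, J, Matrix.fromBlocks_transpose, Matrix.fromBlocks_multiply,
      Matrix.fromBlocks_multiply]
    simp [h1, ← Matrix.transpose_mul]⟩
  map_one' := by apply Subtype.ext; simp
  map_mul' A B := by apply Subtype.ext; simp [Matrix.fromBlocks_multiply]

theorem glEmb_injective (k : ℕ) : Function.Injective (glEmb (F := F) k) := fun A B h => by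
  have h' := congrArg Subtype.val h
  simp only [glEmb, MonoidHom.coe_mk, OneHom.coe_mk] at h'
  exact Units.ext (Matrix.fromBlocks_inj.1 h').1

theorem center_iff {k : ℕ} {X : Sp[k]} : X ∈ Subgroup.center Sp[k] ↔
    ∃ s : F, s * s = 1 ∧ X.1 = s • 1 := by
  rw [CfsgLib.Sp.mem_center_iff]
  constructor
  · rintro (h | h)
    · exact ⟨1, one_mul 1, by rw [h, one_smul]⟩
    · exact ⟨-1, by ring, by rw [h, neg_smul, one_smul]⟩
  · rintro ⟨s, hs, h⟩
    rcases mul_self_eq_one_iff.1 hs with rfl | rfl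
    · left; rw [h, one_smul]
    · right; rw [h, neg_smul, one_smul]

theorem orderOf_mk_dvd_of_pow_eq_sign {k j : ℕ} {X : Sp[k]} {s : F} (hs : s * s = 1)
    (h : (X.1) ^ j = s • 1) : orderOf (QuotientGroup.mk X : Cfsg.PSp k F) ∣ j := by
  apply orderOf_dvd_of_pow_eq_one
  rw [← QuotientGroup.mk_pow, QuotientGroup.eq_one_iff, center_iff]
  exact ⟨s, hs, by rw [SubmonoidClass.coe_pow, h]⟩

theorem exists_sign_pow {k : ℕ} (X : Sp[k]) :
    ∃ s : F, s * s = 1 ∧ X.1 ^ orderOf (QuotientGroup.mk X : Cfsg.PSp k F) = s • 1 := by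
  have h : X ^ orderOf (QuotientGroup.mk X : Cfsg.PSp k F) ∈ Subgroup.center Sp[k] := by
    rw [← QuotientGroup.eq_one_iff, QuotientGroup.mk_pow, pow_orderOf_eq_one]
  simpa using center_iff.1 h

theorem orderOf_dvd_two_mul {k : ℕ} (X : Sp[k]) :
    orderOf X ∣ 2 * orderOf (QuotientGroup.mk X : Cfsg.PSp k F) := by
  obtain ⟨s, hs, h⟩ := exists_sign_pow X
  apply orderOf_dvd_of_pow_eq_one
  apply Subtype.ext
  rw [SubmonoidClass.coe_pow, mul_comm, pow_mul, h, _root_.smul_pow, one_pow, sq, hs, one_smul]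
  rfl

/-- upper unipotent shear -/
def shear {k : ℕ} (S : Matrix (Fin k) (Fin k) F) (hS : Sᵀ = S) : Sp[k] :=
  ⟨Matrix.fromBlocks 1 S 0 1, by
    rw [SymplecticGroup.mem_iff, J, Matrix.fromBlocks_transpose, Matrix.fromBlocks_multiply,
      Matrix.fromBlocks_multiply]
    simp [hS]⟩

theorem exists_block_pow {k : ℕ} (N Y M : Matrix (Fin k) (Fin k) F) (j : ℕ) :
    ∃ Y', (Matrix.fromBlocks N Y 0 M) ^ j = Matrix.fromBlocks (N ^ j) Y' 0 (M ^ j) := by
  induction j with
  | zero => exact ⟨0, by simp [Matrix.fromBlocks_one]⟩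
  | succ j ih =>
    obtain ⟨Y', hY'⟩ := ih
    exact ⟨N ^ j * Y + Y' * M, by rw [pow_succ, hY', Matrix.fromBlocks_multiply]; simp [pow_succ]⟩

/-- A regular unipotent element of `Sp_{2k}`. -/
theorem exists_regUnip (k : ℕ) (hk : 1 ≤ k) :
    ∃ U : Sp[k], (U.1 - 1) ^ (2 * k) = 0 ∧ (U.1 - 1) ^ (2 * k - 1) ≠ 0 ∧
      ∀ (j : ℕ) (s : F), U.1 ^ j = s • 1 → s = 1 := by
  obtain ⟨l, rfl⟩ : ∃ l, k = l + 1 := ⟨k - 1, by omega⟩
  set N := RegUnip.shiftMat (l + 1) F with hN
  let G : GL (Fin (l + 1)) F := Matrix.SpecialLinearGroup.toGL (RegUnip.regUnip (l + 1) F)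
  have hG : (G : Matrix (Fin (l + 1)) (Fin (l + 1)) F) = 1 + N := rfl
  set Gi := ((G⁻¹ : GL (Fin (l + 1)) F) : Matrix (Fin (l + 1)) (Fin (l + 1)) F) with hGi
  have hGGi : (1 + N) * Gi = 1 := by rw [← hG, hGi]; exact G.mul_inv
  have hGiG : Gi * (1 + N) = 1 := by rw [← hG, hGi]; exact G.inv_mul
  let S : Matrix (Fin (l + 1)) (Fin (l + 1)) F := Matrix.single (Fin.last l) (Fin.last l) 1
  let U : Sp[l + 1] := glEmb (l + 1) G * shear S (Matrix.transpose_single ..)
  have hU : U.1 = Matrix.fromBlocks (1 + N) ((1 + N) * S) 0 Giᵀ := by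
    simp only [U, glEmb, shear, Submonoid.coe_mul, MonoidHom.coe_mk, OneHom.coe_mk,
      Matrix.fromBlocks_multiply]
    simp [hG, ← hGi]
  have hU1 : U.1 - 1 = Matrix.fromBlocks N ((1 + N) * S) 0 (Giᵀ - 1) := by
    rw [hU, ← Matrix.fromBlocks_one, sub_eq_iff_eq_add, Matrix.fromBlocks_add]
    simp [add_comm]
  have hNz : N ^ (l + 1) = 0 := RegUnip.shiftMat_pow_eq_zero (l + 1)
  have hNl : N ^ l * (1 + N) = N ^ l := by rw [mul_add, mul_one, ← pow_succ, hNz, add_zero]
  have hNlGi : N ^ l * Gi = N ^ l := by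
    conv_lhs => rw [← hNl]
    rw [mul_assoc, hGGi, mul_one]
  have hGi1 : Gi - 1 = -(N * Gi) := by
    rw [eq_neg_iff_add_eq_zero, sub_add_eq_add_sub]
    have : Gi + N * Gi = 1 := by rw [← hGGi, add_mul, one_mul]
    rw [this, sub_self]
  have hcomm : Commute N Gi := by
    have h1 : Commute (G : Matrix (Fin (l + 1)) (Fin (l + 1)) F) N := by
      rw [hG]; exact (Commute.one_left N).add_left (Commute.refl N)
    exact (Commute.units_inv_left h1).symm
  have hMpow : ∀ j, (Giᵀ - 1) ^ j = ((-1 : ℤ) ^ j • (N ^ j * Gi ^ j))ᵀ := fun j => by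
    rw [← Matrix.transpose_one, ← Matrix.transpose_sub, ← Matrix.transpose_pow, hGi1]
    congr 1
    rw [neg_pow, hcomm.mul_pow]
    rw [zsmul_eq_mul]
    push_cast
    rfl
  have hMz : (Giᵀ - 1) ^ (l + 1) = 0 := by rw [hMpow, hNz]; simp
  have hMl : (Giᵀ - 1) ^ l = ((-1 : ℤ) ^ l • N ^ l)ᵀ := by
    rw [hMpow]
    congr 2
    clear hMpow
    have h : ∀ j, N ^ l * Gi ^ j = N ^ l := fun j => by
      induction j with
      | zero => simp
      | succ j ih => rw [pow_succ, ← mul_assoc, ih, hNlGi]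
    exact h l
  obtain ⟨Y, hY⟩ := exists_block_pow N ((1 + N) * S) (Giᵀ - 1) l
  refine ⟨U, ?_, ?_, ?_⟩
  · obtain ⟨Y', hY'⟩ := exists_block_pow N ((1 + N) * S) (Giᵀ - 1) (l + 1)
    rw [hU1, show 2 * (l + 1) = (l + 1) + (l + 1) by ring, pow_add, hY', hNz, hMz,
      Matrix.fromBlocks_multiply]
    simp
  · rw [hU1, show 2 * (l + 1) - 1 = l + 1 + l by omega, pow_add, pow_succ, hY,
      Matrix.fromBlocks_multiply, Matrix.fromBlocks_multiply]
    intro h
    have h12 := congrArg Matrix.toBlocks₁₂ h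
    have hzero : Matrix.toBlocks₁₂ (0 : Matrix (Fin (l + 1) ⊕ Fin (l + 1)) (Fin (l + 1) ⊕ Fin (l + 1)) F) = 0 := rfl
    rw [Matrix.toBlocks_fromBlocks₁₂, hzero] at h12
    simp only [mul_zero, zero_mul, add_zero, zero_add] at h12
    rw [← pow_succ, hNz, zero_mul, zero_add, add_mul (N ^ l * ((1 + N) * S)), mul_assoc Y, ← pow_succ', hMz, mul_zero, add_zero,
      ← mul_assoc (N ^ l) (1 + N), hNl, hMl] at h12
    have h13 : N ^ l * S * (N ^ l)ᵀ = 0 := by
      rw [Matrix.transpose_smul, mul_smul_comm] at h12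
      rcases neg_one_pow_eq_or ℤ l with hl | hl
      · rwa [hl, one_smul] at h12
      · rwa [hl, neg_smul, one_smul, neg_eq_zero] at h12
    have h00 := congrFun (congrFun h13 0) 0
    simp [S, Matrix.mul_apply, Matrix.single_apply, hN, RegUnip.shiftMat_pow_apply, ite_and,
      Fin.last] at h00
    rw [← Matrix.transpose_pow, Matrix.transpose_apply, RegUnip.shiftMat_pow_apply] at h00
    simp at h00
  · intro j s hj
    obtain ⟨Y', hY'⟩ := exists_block_pow (1 + N) ((1 + N) * S) Giᵀ j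
    rw [hU, hY', ← Matrix.fromBlocks_one, Matrix.fromBlocks_smul] at hj
    exact PSLOrders.eq_one_of_regUnip_pow_eq_scalar (by omega) (Matrix.fromBlocks_inj.1 hj).1

/-- Order of the regular unipotent element. -/
theorem exists_regUnip_order [Fintype F] (p : ℕ) [hp : Fact p.Prime] [CharP F p] {k c : ℕ} (hk : 1 ≤ k)
    (hc : c = 0 ∨ p ^ (c - 1) < 2 * k) :
    ∃ U : Sp[k], p ^ c ∣ orderOf U ∧ ∀ (j : ℕ) (s : F), U.1 ^ j = s • 1 → s = 1 := by
  obtain ⟨U, hz, hnz, hs⟩ := exists_regUnip (F := F) k hk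
  refine ⟨U, ?_, hs⟩
  rcases Nat.eq_zero_or_pos c with h0 | h0
  · subst h0; simp
  replace hc := hc.resolve_left (by omega)
  have : Nonempty (Fin k ⊕ Fin k) := ⟨Sum.inl ⟨0, hk⟩⟩
  have hpow : ∀ j, U.1 ^ p ^ j - 1 = (U.1 - 1) ^ p ^ j := fun j => by
    rw [sub_pow_char_pow_of_commute _ _ (Commute.one_right _), one_pow]
  have hk1 : U ^ p ^ (2 * k) = 1 := by
    apply Subtype.ext
    rw [SubmonoidClass.coe_pow]
    refine sub_eq_zero.1 ?_
    change U.1 ^ p ^ (2 * k) - 1 = 0
    rw [hpow]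
    exact pow_eq_zero_of_le (Nat.lt_pow_self hp.out.one_lt).le hz
  obtain ⟨i, -, hi⟩ := (Nat.dvd_prime_pow hp.out).1 (orderOf_dvd_of_pow_eq_one hk1)
  rw [hi]
  refine Nat.pow_dvd_pow p ?_
  by_contra hlt
  have h1 : U ^ p ^ (c - 1) = 1 := by
    rw [← orderOf_dvd_iff_pow_eq_one, hi]
    exact Nat.pow_dvd_pow p (by omega)
  have h2 := congrArg Subtype.val h1
  rw [SubmonoidClass.coe_pow] at h2
  have h3 : (U.1 - 1) ^ p ^ (c - 1) = 0 := by rw [← hpow, sub_eq_zero]; exact h2
  exact hnz (pow_eq_zero_of_le (by omega) h3)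

section tori

/-- multiplication by a unit of an extension field -/
def mulEquivOfUnit {K : Type*} [Field K] [Algebra F K] (b : Kˣ) : K ≃ₗ[F] K where
  toFun z := (b : K) * z
  map_add' x y := mul_add _ x y
  map_smul' c x := by simp
  invFun z := ((b⁻¹ : Kˣ) : K) * z
  left_inv z := by simp [← mul_assoc]
  right_inv z := by simp [← mul_assoc]

variable [Fintype F]

/-- An element of order `q^h - 1`. -/
theorem exists_torus_minus {h : ℕ} (hh : 1 ≤ h) :
    ∃ T : Sp[h], orderOf T = Fintype.card F ^ h - 1 := by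
  obtain ⟨p, hp⟩ := CharP.exists F
  have : Fact p.Prime := ⟨CharP.char_is_prime F p⟩
  have : NeZero h := ⟨by omega⟩
  let K := FiniteField.Extension F p h
  have : Finite K := Module.finite_of_finite F
  obtain ⟨f, hf, -⟩ := exists_unitsHom_of_extension F K (FiniteField.finrank_extension F p h)
  obtain ⟨g, hg⟩ := IsCyclic.exists_generator (α := Kˣ)
  have hinj : Function.Injective ((glEmb h).comp f.toHomUnits) := fun a b hab => by
    have h1 := glEmb_injective h hab
    exact hf (congrArg Units.val h1)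
  refine ⟨(glEmb h).comp f.toHomUnits g, ?_⟩
  rw [orderOf_injective _ hinj, orderOf_eq_card_of_forall_mem_zpowers hg, Nat.card_units,
    FiniteField.natCard_extension, Nat.card_eq_fintype_card]

/-- An element of order `q^h + 1`, in any characteristic. -/
theorem exists_torus_plus' {h : ℕ} (hh : 1 ≤ h) :
    ∃ T : Sp[h], orderOf T = Fintype.card F ^ h + 1 := by
  classical
  obtain ⟨p, hp⟩ := CharP.exists F
  have : Fact p.Prime := ⟨CharP.char_is_prime F p⟩
  have : NeZero (2 * h) := ⟨by omega⟩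
  let K := FiniteField.Extension F p (2 * h)
  have : Finite K := Module.finite_of_finite F
  have hrank : Module.finrank F K = 2 * h := FiniteField.finrank_extension F p (2 * h)
  have hKcard : Nat.card K = (Fintype.card F ^ h) ^ 2 := by
    rw [FiniteField.natCard_extension, Nat.card_eq_fintype_card, ← pow_mul, mul_comm]
  let σ : K ≃ₐ[F] K := FiniteField.Extension.frob F p (2 * h) ^ h
  have hσ : ∀ x, σ x = x ^ Fintype.card F ^ h := fun x => by
    rw [FiniteField.Extension.frob_iterate_apply, Nat.card_eq_fintype_card]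
  have hσσ : ∀ x, σ (σ x) = x := fun x => by
    have : Fintype K := Fintype.ofFinite K
    rw [hσ, hσ, ← pow_mul, ← sq, ← hKcard, Nat.card_eq_fintype_card, FiniteField.pow_card]
  have hq : 2 ≤ Fintype.card F ^ h := le_trans Fintype.one_lt_card (Nat.le_self_pow (by omega) _)
  obtain ⟨g, hg⟩ := IsCyclic.exists_generator (α := Kˣ)
  have hgo : orderOf g = (Fintype.card F ^ h + 1) * (Fintype.card F ^ h - 1) := by
    rw [orderOf_eq_card_of_forall_mem_zpowers hg, Nat.card_units, hKcard,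
      ← Nat.sq_sub_sq, one_pow]
  have hg1 : σ (g : K) ≠ g := fun he => by
    rw [hσ] at he
    have h1 : (g : K) ^ (Fintype.card F ^ h - 1) = 1 := by
      refine mul_right_cancel₀ g.ne_zero ?_
      rw [one_mul, ← pow_succ, Nat.sub_add_cancel (by omega)]
      exact he
    have h2 := orderOf_dvd_of_pow_eq_one (show g ^ (Fintype.card F ^ h - 1) = 1 from Units.ext (by simpa using h1))
    rw [hgo] at h2
    have h3 := Nat.le_of_dvd (by omega) h2
    have h4 := Nat.mul_le_mul_right (Fintype.card F ^ h - 1) (show 3 ≤ Fintype.card F ^ h + 1 by omega)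
    omega
  set δ : K := (g : K) - σ g with hδ
  have hδ0 : δ ≠ 0 := sub_ne_zero.2 fun e => hg1 e.symm
  have hσδ : σ δ = -δ := by rw [hδ, map_sub, hσσ, neg_sub]
  let B : LinearMap.BilinForm F K := LinearMap.mk₂ F (fun x y => Algebra.trace F K (δ * x * σ y))
    (fun x x' y => by simp [mul_add, add_mul])
    (fun c x y => by simp)
    (fun x y y' => by simp [mul_add])
    (fun c x y => by simp)
  have hA : B.IsAlt := fun x => by
    have hu : σ (δ * x * σ x) = -(δ * x * σ x) := by rw [map_mul, map_mul, hσδ, hσσ]; ring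
    change Algebra.trace F K (δ * x * σ x) = 0
    apply (algebraMap F K).injective
    rw [map_zero, FiniteField.algebraMap_trace_eq_sum_pow, hrank,
      show Finset.range (2 * h) = Finset.range (h + h) by rw [two_mul], Finset.sum_range_add,
      ← Finset.sum_add_distrib]
    generalize δ * x * σ x = u at hu ⊢
    refine Finset.sum_eq_zero fun i _ => ?_
    rw [hσ] at hu
    rw [pow_add (Nat.card F), mul_comm (Nat.card F ^ h), pow_mul, pow_right_comm,
      Nat.card_eq_fintype_card, hu]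
    have hneg := map_neg (FiniteField.Extension.frob F p (2 * h) ^ i) u
    rw [FiniteField.Extension.frob_iterate_apply, FiniteField.Extension.frob_iterate_apply,
      Nat.card_eq_fintype_card] at hneg
    rw [hneg, add_neg_cancel]
  have hB : LinearMap.SeparatingLeft B := by
    intro x hx
    by_contra hx0
    have h1 : ∀ z, Algebra.trace F K (δ * x * z) = 0 := fun z => by
      have := hx (σ z)
      simpa [B, hσσ] using this
    have h2 : δ * x = 0 := (traceForm_nondegenerate F K).1 (δ * x) fun z => by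
      rw [Algebra.traceForm_apply]; exact h1 z
    exact hx0 ((mul_eq_zero.1 h2).resolve_left hδ0)
  obtain ⟨e, he⟩ := CfsgLib.Sp.exists_std_equiv B hA hB hrank
  -- norm one element
  set a : Kˣ := g ^ (Fintype.card F ^ h - 1) with ha
  have hao : orderOf a = Fintype.card F ^ h + 1 := by
    rw [ha, orderOf_pow' g (by omega), hgo, Nat.gcd_mul_left_left, Nat.mul_div_cancel _ (by omega)]
  have hnorm : (a : K) * σ (a : K) = 1 := by
    have : a ^ (Fintype.card F ^ h + 1) = 1 := hao ▸ pow_orderOf_eq_one a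
    rw [hσ, ← pow_succ', ← Units.val_pow_eq_pow_val, this, Units.val_one]
  -- multiplication by powers of `a`
  let L : Subgroup Kˣ := Subgroup.zpowers a
  have hL : ∀ b ∈ L, (b : K) * σ (b : K) = 1 := by
    intro b hb
    obtain ⟨j, rfl⟩ := mem_powers_iff_mem_zpowers.2 hb
    change ((a ^ j : Kˣ) : K) * σ ((a ^ j : Kˣ) : K) = 1
    rw [Units.val_pow_eq_pow_val, map_pow, ← mul_pow, hnorm, one_pow]
  let act : Kˣ → (Fin h ⊕ Fin h → F) ≃ₗ[F] (Fin h ⊕ Fin h → F) := fun b =>
    e.trans ((mulEquivOfUnit (F := F) b).trans e.symm)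
  have hact : ∀ b ∈ L, act b ∈ CfsgLib.Sp.isom (CfsgLib.Sp.sympBilin h F) := by
    intro b hb u v
    rw [CfsgLib.Sp.sympBilin_apply, CfsgLib.Sp.sympBilin_apply, ← he, ← he]
    simp only [act, LinearEquiv.trans_apply, LinearEquiv.apply_symm_apply]
    change Algebra.trace F K (δ * ((b : K) * e u) * σ ((b : K) * e v)) = Algebra.trace F K (δ * e u * σ (e v))
    rw [map_mul σ, show δ * ((b : K) * e u) * (σ (b : K) * σ (e v)) =
      ((b : K) * σ (b : K)) * (δ * e u * σ (e v)) by ring, hL b hb, one_mul]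
  choose T hT using fun b : L => CfsgLib.Sp.exists_toEquiv_eq (hact b.1 b.2)
  let Φ : L →* Sp[h] :=
    { toFun := T
      map_one' := by
        refine CfsgLib.Sp.toEquiv_injective ?_
        rw [hT, map_one]
        exact LinearEquiv.ext fun v => by simp [act, mulEquivOfUnit]
      map_mul' := fun b c => by
        refine CfsgLib.Sp.toEquiv_injective ?_
        rw [hT, map_mul, hT, hT]
        exact LinearEquiv.ext fun v => by simp [act, mulEquivOfUnit, mul_assoc] }
  have hΦ : Function.Injective Φ := fun b c hbc => by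
    have h1 : act b.1 = act c.1 := by rw [← hT, ← hT]; exact congrArg _ hbc
    have h2 := LinearEquiv.congr_fun h1 (e.symm 1)
    simp [act, mulEquivOfUnit] at h2
    exact Subtype.ext (Units.ext h2)
  refine ⟨Φ ⟨a, Subgroup.mem_zpowers a⟩, ?_⟩
  rw [orderOf_injective Φ hΦ, Subgroup.orderOf_mk, hao]

/-- An element of order `q^h + 1`. -/
theorem exists_torus_plus (_hodd : (2 : F) ≠ 0) {h : ℕ} (hh : 1 ≤ h) :
    ∃ T : Sp[h], orderOf T = Fintype.card F ^ h + 1 := exists_torus_plus' hh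

end tori

end CfsgLib.SpecSp
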