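import Mathlib
import Cfsg.Agent.Lib.SpecSp.Blocks

/-!
Elements of a symplectic group: either a commuting involution outside the centre (orthogonal decomposition)
or a self-reciprocal primary minimal polynomial with an explicit exponent.
-/

set_option autoImplicit false

namespace CfsgLib.SpecSp

open Matrix Polynomial CfsgLib.SpecLin

variable {F : Type*} [Field F] {n : ℕ}

local notation "Sp" => Matrix.symplecticGroup (Fin n) F
local notation "MM" => Matrix (Fin n ⊕ Fin n) (Fin n ⊕ Fin n) F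

theorem val_mul_val_inv (X : Sp) : X.1 * (X⁻¹ : Sp).1 = 1 :=
  congrArg Subtype.val (mul_inv_cancel X)

theorem val_inv_mul_val (X : Sp) : (X⁻¹ : Sp).1 * X.1 = 1 :=
  congrArg Subtype.val (inv_mul_cancel X)

theorem commute_val_inv (X : Sp) : Commute X.1 (X⁻¹ : Sp).1 :=
  (val_mul_val_inv X).trans (val_inv_mul_val X).symm

/-- `X⁻¹` is the adjoint of `X`. -/
theorem sympForm_aeval (X : Sp) (P : F[X]) (u v : Fin n ⊕ Fin n → F) :
    Cfsg.sympForm n F (aeval X.1 P *ᵥ u) v = Cfsg.sympForm n F u (aeval (X⁻¹ : Sp).1 P *ᵥ v) := by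
  induction P using Polynomial.induction_on' with
  | add P Q hP hQ =>
    rw [map_add, map_add, Matrix.add_mulVec, Matrix.add_mulVec, ← CfsgLib.Sp.sympBilin_apply,
      ← CfsgLib.Sp.sympBilin_apply, map_add, LinearMap.add_apply, map_add, CfsgLib.Sp.sympBilin_apply,
      CfsgLib.Sp.sympBilin_apply, CfsgLib.Sp.sympBilin_apply, CfsgLib.Sp.sympBilin_apply, hP, hQ]
  | monomial j a =>
    rw [aeval_monomial, aeval_monomial, Algebra.algebraMap_eq_smul_one, smul_mul_assoc, one_mul,
      smul_mul_assoc, one_mul, Matrix.smul_mulVec, Matrix.smul_mulVec, ← CfsgLib.Sp.sympBilin_apply,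
      ← CfsgLib.Sp.sympBilin_apply, map_smul, LinearMap.smul_apply, map_smul]
    congr 1
    rw [CfsgLib.Sp.sympBilin_apply, CfsgLib.Sp.sympBilin_apply]
    induction j generalizing u with
    | zero => simp
    | succ j ih =>
      rw [pow_succ, ← Matrix.mulVec_mulVec, ih, pow_succ', ← Matrix.mulVec_mulVec]
      conv_rhs => rw [← CfsgLib.Sp.sympForm_mulVec X]
      rw [Matrix.mulVec_mulVec _ X.1 (X⁻¹ : Sp).1, val_mul_val_inv, Matrix.one_mulVec]

theorem aeval_reflect (X : Sp) (N : ℕ) (P : F[X]) (hP : P.natDegree ≤ N) :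
    aeval X.1 (P.reflect N) = X.1 ^ N * aeval (X⁻¹ : Sp).1 P := by
  refine induction_with_natDegree_le
    (fun P => aeval X.1 (P.reflect N) = X.1 ^ N * aeval (X⁻¹ : Sp).1 P) N ?_ ?_ ?_ P hP
  · simp
  · intro j r _ hjN
    rw [reflect_C_mul_X_pow, revAt_le hjN, map_mul, map_mul, map_pow, map_pow, aeval_X, aeval_X, aeval_C,
      aeval_C, Algebra.algebraMap_eq_smul_one, smul_mul_assoc, one_mul, smul_mul_assoc, one_mul,
      Algebra.mul_smul_comm]
    congr 1
    conv_rhs => rw [← Nat.sub_add_cancel hjN]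
    rw [pow_add, mul_assoc, ← (commute_val_inv X).mul_pow, val_mul_val_inv, one_pow, mul_one]
  · intro f g _ _ hf hg
    rw [reflect_add, map_add, map_add, hf, hg, mul_add]

/-- Commutation passes to polynomials. -/
theorem commute_aeval {A B : MM} (h : Commute A B) (P : F[X]) : Commute A (aeval B P) := by
  induction P using Polynomial.induction_on' with
  | add P Q hP hQ => rw [map_add]; exact hP.add_right hQ
  | monomial j a =>
    rw [aeval_monomial]
    exact (Algebra.commute_algebraMap_right a A).mul_right (h.pow_right j)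

theorem aeval_reverse (X : Sp) (P : F[X]) :
    aeval X.1 P.reverse = X.1 ^ P.natDegree * aeval (X⁻¹ : Sp).1 P :=
  aeval_reflect X P.natDegree P le_rfl

theorem eq_zero_of_adjoint (X : Sp) {P : F[X]} (h : aeval X.1 P = 0) : aeval (X⁻¹ : Sp).1 P = 0 := by
  refine Matrix.ext_of_mulVec_single fun i => ?_
  rw [Matrix.zero_mulVec]
  refine (CfsgLib.Sp.sympBilin_nondegenerate (F := F) (m := n)).2 _ fun u => ?_
  rw [CfsgLib.Sp.sympBilin_apply, ← sympForm_aeval, h, Matrix.zero_mulVec]
  rw [← CfsgLib.Sp.sympBilin_apply, map_zero, LinearMap.zero_apply]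

theorem minpoly_dvd_reverse (X : Sp) : minpoly F X.1 ∣ (minpoly F X.1).reverse :=
  minpoly.dvd F X.1 (by rw [aeval_reverse, eq_zero_of_adjoint X (minpoly.aeval F X.1), mul_zero])

theorem natDegree_reverse_eq {P : F[X]} (h : P.coeff 0 ≠ 0) : P.reverse.natDegree = P.natDegree := by
  rw [reverse_natDegree, natTrailingDegree_eq_zero.2 (Or.inr h), Nat.sub_zero]

theorem reverse_reverse_eq {P : F[X]} (h : P.coeff 0 ≠ 0) : P.reverse.reverse = P := by
  rw [reverse, natDegree_reverse_eq h, reverse]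
  exact reflect_reflect

theorem coeff_zero_minpoly_ne_zero (X : Sp) : (minpoly F X.1).coeff 0 ≠ 0 := by
  intro h
  obtain ⟨Q, hQ⟩ := X_dvd_iff.2 h
  have h0 := minpoly.aeval F X.1
  rw [hQ, map_mul, aeval_X] at h0
  have hQ0 : aeval X.1 Q = 0 := by
    calc aeval X.1 Q = (X⁻¹ : Sp).1 * (X.1 * aeval X.1 Q) := by
          rw [← mul_assoc, val_inv_mul_val, one_mul]
      _ = 0 := by rw [h0, mul_zero]
  have hne : minpoly F X.1 ≠ 0 := minpoly.ne_zero (Matrix.isIntegral X.1)
  have hd := natDegree_le_of_dvd (minpoly.dvd F X.1 hQ0)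
    (by rintro rfl; rw [mul_zero] at hQ; exact hne hQ)
  rw [hQ, natDegree_mul X_ne_zero (by rintro rfl; rw [mul_zero] at hQ; exact hne hQ), natDegree_X] at hd
  omega

theorem coeff_zero_ne_zero_of_dvd {P Q : F[X]} (h : P ∣ Q) (hQ : Q.coeff 0 ≠ 0) : P.coeff 0 ≠ 0 := by
  obtain ⟨R, rfl⟩ := h
  rw [mul_coeff_zero] at hQ
  exact left_ne_zero_of_mul hQ

theorem irreducible_reverse {P : F[X]} (hP : Irreducible P) (h : P.coeff 0 ≠ 0) :
    Irreducible P.reverse := by
  refine ⟨fun hu => hP.not_isUnit ?_, fun a b hab => ?_⟩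
  · have hd := natDegree_eq_zero_of_isUnit hu
    rw [natDegree_reverse_eq h] at hd
    have := hP.natDegree_pos
    omega
  · have h0 : a.coeff 0 * b.coeff 0 ≠ 0 := by
      rw [← mul_coeff_zero, ← hab, coeff_zero_reverse]
      exact leadingCoeff_ne_zero.2 hP.ne_zero
    have hP' : P = a.reverse * b.reverse := by
      rw [← reverse_mul_of_domain, ← hab, reverse_reverse_eq h]
    rcases hP.isUnit_or_isUnit hP' with hu | hu
    · left
      rw [isUnit_iff_degree_eq_zero, degree_eq_natDegree (by rintro rfl; simp at h0),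
        ← natDegree_reverse_eq (left_ne_zero_of_mul h0), natDegree_eq_zero_of_isUnit hu]
      rfl
    · right
      rw [isUnit_iff_degree_eq_zero, degree_eq_natDegree (by rintro rfl; simp at h0),
        ← natDegree_reverse_eq (right_ne_zero_of_mul h0), natDegree_eq_zero_of_isUnit hu]
      rfl

/-- A factorisation of the minimal polynomial into coprime self-reciprocal nonunits gives a commuting
involution outside the centre. -/
theorem exists_involution (hodd : (2 : F) ≠ 0) (X : Sp) {P R : F[X]} (hcop : IsCoprime P R)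
    (hμ : minpoly F X.1 = P * R) (hPu : ¬ IsUnit P) (hRu : ¬ IsUnit R)
    (hP : P ∣ P.reverse) (hR : R ∣ R.reverse) :
    ∃ Z : Sp, Z ^ 2 = 1 ∧ Z ∉ Subgroup.center Sp ∧ Commute X Z := by
  obtain ⟨s, t, hst⟩ := hcop
  set M := X.1 with hM
  set Mi := (X⁻¹ : Sp).1 with hMi
  have hPR : aeval M P * aeval M R = 0 := by rw [← map_mul, ← hμ, minpoly.aeval]
  have hflip : ∀ {Q : F[X]}, Q ∣ Q.reverse → ∃ Y : MM, aeval Mi Q = Y * aeval M Q ∧
      ∀ S : F[X], Commute (aeval M S) Y := by
    intro Q hQ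
    obtain ⟨c, hc⟩ := hQ
    refine ⟨Mi ^ Q.natDegree * aeval M c, ?_, fun S => Commute.mul_right ?_ ?_⟩
    · have h1 := aeval_reverse X Q
      rw [hc, map_mul, ← hM, ← hMi] at h1
      rw [mul_assoc, ← map_mul, mul_comm c, map_mul, h1, ← mul_assoc, hMi, hM,
        ← (commute_val_inv X).symm.mul_pow, val_inv_mul_val, one_pow, one_mul]
    · exact ((commute_aeval (A := Mi) (B := M) (commute_val_inv X).symm S).pow_left _).symm
    · rw [Commute, SemiconjBy, ← map_mul, ← map_mul, mul_comm]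
  obtain ⟨Yp, hYp, hYpc⟩ := hflip hP
  obtain ⟨Yr, hYr, hYrc⟩ := hflip hR
  set E := aeval M (t * R) with hE
  set E' := aeval M (s * P) with hE'
  set G := aeval Mi (t * R) with hG
  set G' := aeval Mi (s * P) with hG'
  have hsum : E' + E = 1 := by rw [hE, hE', ← map_add, hst, map_one]
  have hsum' : G' + G = 1 := by rw [hG, hG', ← map_add, hst, map_one]
  have hcMi : ∀ S : F[X], Commute (aeval Mi S) M := fun S =>
    (commute_aeval (A := M) (B := Mi) (commute_val_inv X) S).symm
  have hGE' : G * E' = 0 := by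
    rw [hG, hE', map_mul, map_mul, hYr]
    calc aeval Mi t * (Yr * aeval M R) * (aeval M s * aeval M P)
        = aeval Mi t * (Yr * (aeval M R * aeval M s * aeval M P)) := by simp only [mul_assoc]
      _ = 0 := by rw [← map_mul, ← map_mul, show R * s * P = s * (P * R) by ring, map_mul, ← hμ,
            minpoly.aeval, mul_zero, mul_zero, mul_zero]
  have hG'E : G' * E = 0 := by
    rw [hG', hE, map_mul, map_mul, hYp]
    calc aeval Mi s * (Yp * aeval M P) * (aeval M t * aeval M R)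
        = aeval Mi s * (Yp * (aeval M P * aeval M t * aeval M R)) := by simp only [mul_assoc]
      _ = 0 := by rw [← map_mul, ← map_mul, show P * t * R = t * (P * R) by ring, map_mul, ← hμ,
            minpoly.aeval, mul_zero, mul_zero, mul_zero]
  have hGeq : G = E := by
    calc G = G * (E' + E) := by rw [hsum, mul_one]
      _ = G * E + G' * E := by rw [mul_add, hGE', zero_add, hG'E, add_zero]
      _ = E := by rw [← add_mul, add_comm G G', hsum', one_mul]
  have hG'eq : G' = E' := by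
    have h := hsum'.trans hsum.symm
    rw [hGeq] at h
    exact add_right_cancel h
  set T := aeval M (s * P - t * R) with hT
  have hTi : aeval Mi (s * P - t * R) = T := by
    rw [hT, map_sub, map_sub, ← hG, ← hG', hGeq, hG'eq]
  have hTT : T * T = 1 := by
    rw [hT, ← map_mul, show (s * P - t * R) * (s * P - t * R) =
      (s * P + t * R) * (s * P + t * R) - 4 * (s * t) * (P * R) by ring, hst, map_sub, map_mul _ (4 * (s * t)),
      ← hμ, minpoly.aeval, mul_zero, sub_zero, one_mul, map_one]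
  have hTmem : T ∈ Matrix.symplecticGroup (Fin n) F := by
    rw [CfsgLib.Sp.mem_symplecticGroup_iff]
    intro u v
    rw [hT, sympForm_aeval, ← hMi, hTi, ← hT, Matrix.mulVec_mulVec, hTT, Matrix.one_mulVec]
  refine ⟨⟨T, hTmem⟩, ?_, ?_, ?_⟩
  · apply Subtype.ext
    rw [SubmonoidClass.coe_pow, sq]
    exact hTT
  · intro hc
    have h4 : ∀ {S : F[X]}, aeval M S = 0 → P * R ∣ S := fun h => hμ ▸ minpoly.dvd F M h
    have hC2 : IsUnit (C (2 : F)) := isUnit_C.2 hodd.isUnit
    rcases CfsgLib.Sp.mem_center_iff.1 hc with h | h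
    · have h0 : aeval M (s * P - t * R - 1) = 0 := by
        rw [map_sub, ← hT, map_one, sub_eq_zero]; exact h
      have hd := h4 h0
      rw [show s * P - t * R - 1 = -(C 2 * (t * R)) by rw [← hst, map_ofNat]; ring, dvd_neg] at hd
      have hd' : P ∣ t * R := hC2.dvd_mul_left.1 ((dvd_mul_right P R).trans hd)
      refine hPu (isUnit_of_dvd_one ?_)
      rw [← hst]
      exact dvd_add (dvd_mul_left P s) hd'
    · have h0 : aeval M (s * P - t * R + 1) = 0 := by
        rw [map_add, ← hT, map_one, add_eq_zero_iff_eq_neg]; exact h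
      have hd := h4 h0
      rw [show s * P - t * R + 1 = C 2 * (s * P) by rw [← hst, map_ofNat]; ring] at hd
      have hd' : R ∣ s * P := hC2.dvd_mul_left.1 ((dvd_mul_left R P).trans hd)
      refine hRu (isUnit_of_dvd_one ?_)
      rw [← hst]
      exact dvd_add hd' (dvd_mul_left R t)
  · exact Subtype.ext (commute_aeval (Commute.refl M) (s * P - t * R)).eq

section finite

variable [Fintype F]

theorem odd_card_of_two_ne (h2 : (2 : F) ≠ 0) : Fintype.card F % 2 = 1 := by
  apply FiniteField.odd_card_of_char_ne_two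
  intro hc
  have := ringChar.charP F
  rw [hc] at this
  exact h2 (CharP.cast_eq_zero F 2)

/-- A root with `ρ ^ (2k) = 1` gives `φ ∣ X^k ∓ 1`. -/
theorem exists_sign_dvd {φ : F[X]} [Fact (Irreducible φ)] {k : ℕ}
    (h : AdjoinRoot.root φ ^ k * AdjoinRoot.root φ ^ k = 1) :
    ∃ ν : F, ν * ν = 1 ∧ φ ∣ X ^ k - C ν := by
  rcases mul_self_eq_one_iff.1 h with h | h
  · exact ⟨1, one_mul 1, by rw [← AdjoinRoot.mk_eq_zero, map_sub, map_pow, AdjoinRoot.mk_X, map_one,
      map_one, h, sub_self]⟩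
  · exact ⟨-1, by ring, by rw [← AdjoinRoot.mk_eq_zero, map_sub, map_pow, AdjoinRoot.mk_X, map_neg,
      map_neg, map_one, map_one, h, sub_self]⟩

/-- Self-reciprocal irreducible polynomials, in any characteristic. -/
theorem self_reciprocal' {φ : F[X]} (hirr : Irreducible φ) (h0 : φ.coeff 0 ≠ 0)
    (hself : φ ∣ φ.reverse) :
    (AdjoinRoot.root φ ^ 2 = 1) ∨
    ∃ h, 1 ≤ h ∧ φ.natDegree = 2 * h ∧ AdjoinRoot.root φ ^ (Fintype.card F ^ h + 1) = 1 := by
  classical
  have : Fact (Irreducible φ) := ⟨hirr⟩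
  obtain ⟨p, hp⟩ := CharP.exists F
  have : Fact p.Prime := ⟨CharP.char_is_prime F p⟩
  let pb := AdjoinRoot.powerBasis hirr.ne_zero
  have : Module.Finite F (AdjoinRoot φ) := pb.finite
  have : Finite (AdjoinRoot φ) := Module.finite_of_finite F
  have : Fintype (AdjoinRoot φ) := Fintype.ofFinite _
  set ρ := AdjoinRoot.root φ with hρ
  set d := φ.natDegree with hd
  have hd1 : 1 ≤ d := hirr.natDegree_pos
  set q := Fintype.card F with hq
  have hKcard : Fintype.card (AdjoinRoot φ) = q ^ d := by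
    rw [Module.card_eq_pow_finrank (K := F), pb.finrank, AdjoinRoot.powerBasis_dim]
  have hρ0 : ρ ≠ 0 := by
    rw [hρ, ← AdjoinRoot.mk_X]
    intro h
    exact h0 (X_dvd_iff.1 ((hirr.associated_of_dvd irreducible_X (AdjoinRoot.mk_eq_zero.1 h)).symm.dvd))
  -- `ρ⁻¹` is a root
  have hroot : aeval ρ⁻¹ φ = 0 := by
    let : Invertible ρ := invertibleOfNonzero hρ0
    have h1 : aeval ρ φ.reverse = 0 := by
      obtain ⟨c, hc⟩ := hself
      rw [hc, map_mul, hρ, AdjoinRoot.aeval_eq φ, AdjoinRoot.mk_self, zero_mul]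
    have h2 := eval₂_reverse_eq_zero_iff (algebraMap F (AdjoinRoot φ)) ρ⁻¹ φ
    let : Invertible ρ⁻¹ := invertibleOfNonzero (inv_ne_zero hρ0)
    have h3 := (eval₂_reverse_eq_zero_iff (algebraMap F (AdjoinRoot φ)) ρ⁻¹ φ).1 (by
      rw [invOf_eq_inv, inv_inv]; exact h1)
    exact h3
  let σ : AdjoinRoot φ →ₐ[F] AdjoinRoot φ :=
    AdjoinRoot.liftAlgHom φ (Algebra.ofId F (AdjoinRoot φ)) ρ⁻¹ hroot
  let σ' : AdjoinRoot φ ≃ₐ[F] AdjoinRoot φ := AlgEquiv.ofBijective σ
    (Finite.injective_iff_bijective.1 σ.toRingHom.injective)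
  obtain ⟨i, hi⟩ := FiniteField.exists_forall_apply_eq_pow F p (AdjoinRoot φ) σ'
  have hinv : ρ⁻¹ = ρ ^ q ^ i := by
    rw [hq, ← Nat.card_eq_fintype_card, ← hi]
    change ρ⁻¹ = σ ρ
    exact (AdjoinRoot.liftAlgHom_root φ (Algebra.ofId F (AdjoinRoot φ)) ρ⁻¹ hroot).symm
  have hper : ∀ m : ℕ, ρ ^ q ^ (m * d) = ρ := fun m => by
    induction m with
    | zero => simp
    | succ m ih => rw [Nat.succ_mul, pow_add, pow_mul, ih, ← hKcard, FiniteField.pow_card]
  set j := i % d
  have hinvj : ρ⁻¹ = ρ ^ q ^ j := by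
    rw [hinv]
    conv_lhs => rw [← Nat.mod_add_div i d]
    rw [pow_add, mul_comm (q ^ _), pow_mul, mul_comm d, hper]
  have hjd : j < d := Nat.mod_lt _ (by omega)
  have h2j : ρ ^ q ^ (2 * j) = ρ := by
    rw [two_mul, pow_add, pow_mul, ← hinvj, inv_pow, ← hinvj, inv_inv]
  have hdvd : d ∣ 2 * j := by
    apply hirr.natDegree_dvd_of_dvd_X_pow_card_pow_sub_X
    rw [Nat.card_eq_fintype_card, ← AdjoinRoot.mk_eq_zero, map_sub, map_pow, AdjoinRoot.mk_X, ← hρ,
      h2j, sub_self]
  rcases Nat.eq_zero_or_pos j with hj0 | hjpos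
  · left
    rw [hj0, pow_zero, pow_one] at hinvj
    rw [sq]
    nth_rewrite 1 [← hinvj]
    exact inv_mul_cancel₀ hρ0
  · right
    obtain ⟨c, hc⟩ := hdvd
    have hc1 : c = 1 := by
      rcases c with _ | _ | c
      · omega
      · rfl
      · exfalso
        have : d * 2 ≤ 2 * j := hc ▸ Nat.mul_le_mul_left d (by omega)
        omega
    subst hc1
    refine ⟨j, hjpos, by omega, ?_⟩
    rw [pow_succ, ← hinvj, inv_mul_cancel₀ hρ0]

/-- Self-reciprocal irreducible polynomials. -/
theorem self_reciprocal (h2 : (2 : F) ≠ 0) {φ : F[X]} (hirr : Irreducible φ) (h0 : φ.coeff 0 ≠ 0)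
    (hself : φ ∣ φ.reverse) :
    (φ.natDegree = 1 ∧ ∃ ν : F, ν * ν = 1 ∧ φ ∣ X ^ 1 - C ν) ∨
    ∃ h, 1 ≤ h ∧ φ.natDegree = 2 * h ∧
      ∃ ν : F, ν * ν = 1 ∧ φ ∣ X ^ ((Fintype.card F ^ h + 1) / 2) - C ν := by
  have : Fact (Irreducible φ) := ⟨hirr⟩
  rcases self_reciprocal' hirr h0 hself with hsq | ⟨h, hh, hd, hpow⟩
  · left
    rw [sq] at hsq
    obtain ⟨ν, hν, hdv⟩ := exists_sign_dvd (φ := φ) (k := 1) (by rw [pow_one]; exact hsq)
    refine ⟨?_, ν, hν, hdv⟩
    have hne : (X ^ 1 - C ν : F[X]) ≠ 0 := by rw [pow_one]; exact X_sub_C_ne_zero ν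
    have := natDegree_le_of_dvd hdv hne
    rw [pow_one, natDegree_X_sub_C] at this
    have := hirr.natDegree_pos
    omega
  · right
    refine ⟨h, hh, hd, ?_⟩
    apply exists_sign_dvd
    have he : (Fintype.card F ^ h + 1) / 2 + (Fintype.card F ^ h + 1) / 2 = Fintype.card F ^ h + 1 := by
      obtain ⟨c, hc⟩ : Odd (Fintype.card F ^ h) := (Nat.odd_iff.2 (odd_card_of_two_ne h2)).pow
      omega
    rw [← pow_add, he, hpow]

/-- The dichotomy. -/
theorem dichotomy (h2 : (2 : F) ≠ 0) (hn : 1 ≤ n) (X : Sp) :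
    (∃ Z : Sp, Z ^ 2 = 1 ∧ Z ∉ Subgroup.center Sp ∧ Commute X Z) ∨
    ∃ (P : F[X]) (e k : ℕ) (ν : F), 1 ≤ e ∧ aeval X.1 (P ^ e) = 0 ∧ P ∣ Polynomial.X ^ k - C ν ∧
      ν * ν = 1 ∧ ((k = 1 ∧ e ≤ 2 * n) ∨ ∃ h, 1 ≤ h ∧ h * e ≤ n ∧
        (k = (Fintype.card F ^ h - 1) / 2 ∨ k = (Fintype.card F ^ h + 1) / 2)) := by
  classical
  have : Nonempty (Fin n) := ⟨⟨0, hn⟩⟩
  set μ := minpoly F X.1 with hμ
  have hint : IsIntegral F X.1 := Matrix.isIntegral X.1
  have hμ0 : μ ≠ 0 := minpoly.ne_zero hint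
  have hμc : μ.coeff 0 ≠ 0 := coeff_zero_minpoly_ne_zero X
  have hdeg : μ.natDegree ≤ 2 * n := by
    have h := natDegree_le_of_dvd (Matrix.minpoly_dvd_charpoly X.1) X.1.charpoly_monic.ne_zero
    simpa [Matrix.charpoly_natDegree_eq_dim, two_mul] using h
  have hrev : μ ∣ μ.reverse := minpoly_dvd_reverse X
  have hrev' : μ.reverse ∣ μ := by
    obtain ⟨c, hc⟩ := hrev
    have hc0 : c.coeff 0 ≠ 0 := fun h => leadingCoeff_ne_zero.2 hμ0 (by
      rw [← coeff_zero_reverse, hc, mul_coeff_zero, h, mul_zero])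
    refine ⟨c.reverse, ?_⟩
    conv_lhs => rw [← reverse_reverse_eq hμc, hc, reverse_mul_of_domain]
  obtain ⟨φ, -, hirr, hφμ⟩ := exists_monic_irreducible_factor μ (minpoly.not_isUnit F X.1)
  obtain ⟨a, R, hR, hμeq⟩ := WfDvdMonoid.max_power_factor hμ0 hirr
  have ha : 1 ≤ a := by
    by_contra h
    have : a = 0 := by omega
    subst this
    rw [pow_zero, one_mul] at hμeq
    exact hR (hμeq ▸ hφμ)
  have hφc : φ.coeff 0 ≠ 0 := coeff_zero_ne_zero_of_dvd hφμ hμc
  have hφr := irreducible_reverse hirr hφc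
  have hφac : (φ ^ a).coeff 0 ≠ 0 := coeff_zero_ne_zero_of_dvd ⟨R, hμeq⟩ hμc
  have hrevpow : (φ ^ a).reverse = φ.reverse ^ a := by
    clear hμeq hφac ha
    induction a with
    | zero => simp [reverse]
    | succ a ih => rw [pow_succ, pow_succ, reverse_mul_of_domain, ih]
  -- the cofactor of a self-reciprocal factor is self-reciprocal
  have hco : ∀ {P Q : F[X]}, μ = P * Q → P ≠ 0 → P.reverse ∣ P → Q ∣ Q.reverse := by
    intro P Q hPQ hP0 hPr
    obtain ⟨c, hc⟩ := hPr
    have hd : μ ∣ P.reverse * Q.reverse := by rw [← reverse_mul_of_domain, ← hPQ]; exact hrev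
    rw [hPQ] at hd
    have hPr0 : P.reverse ≠ 0 := fun h => hP0 (reverse_eq_zero.1 h)
    have hd' : P.reverse * (c * Q) ∣ P.reverse * Q.reverse := by rwa [← mul_assoc, ← hc]
    have := (mul_dvd_mul_iff_left hPr0).1 hd'
    exact (dvd_mul_left Q c).trans this
  have hfin : ∀ {P : F[X]} {e k : ℕ} {ν : F} {Q : F[X]}, μ = P ^ e * Q → IsUnit Q →
      aeval X.1 (P ^ e) = 0 := by
    intro P e k ν Q hPQ hQ
    have h := minpoly.aeval F X.1
    rw [← hμ, hPQ, map_mul] at h
    exact (hQ.map (aeval X.1)).mul_left_eq_zero.1 h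
  by_cases hself : φ ∣ φ.reverse
  · have hself' : φ.reverse ∣ φ := (hirr.associated_of_dvd hφr hself).symm.dvd
    by_cases hRu : IsUnit R
    · right
      have hdle : φ.natDegree * a ≤ 2 * n := by
        have h := natDegree_le_of_dvd (Dvd.intro R hμeq.symm) hμ0
        rw [natDegree_pow, mul_comm] at h
        exact h.trans hdeg
      rcases self_reciprocal h2 hirr hφc hself with ⟨hd1, ν, hν, hdv⟩ | ⟨h, hh, hdh, ν, hν, hdv⟩
      · rw [hd1, one_mul] at hdle
        exact ⟨φ, a, 1, ν, ha, hfin (k := 0) (ν := ν) hμeq hRu, hdv, hν, Or.inl ⟨rfl, hdle⟩⟩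
      · rw [hdh, mul_assoc] at hdle
        exact ⟨φ, a, _, ν, ha, hfin (k := 0) (ν := ν) hμeq hRu, hdv, hν,
          Or.inr ⟨h, hh, by omega, Or.inr rfl⟩⟩
    · left
      refine exists_involution h2 X ((hirr.coprime_iff_not_dvd.2 hR).pow_left) hμeq ?_ hRu ?_ ?_
      · exact fun hu => hirr.not_isUnit (isUnit_of_dvd_unit (dvd_pow_self φ (by omega)) hu)
      · rw [hrevpow]; exact pow_dvd_pow_of_dvd hself a
      · exact hco hμeq (pow_ne_zero _ hirr.ne_zero) (by rw [hrevpow]; exact pow_dvd_pow_of_dvd hself' a)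
  · have hcop : IsCoprime φ φ.reverse := hirr.coprime_iff_not_dvd.2 hself
    have hra : φ.reverse ^ a ∣ R := by
      have h1 : φ.reverse ^ a ∣ μ := by
        refine dvd_trans ?_ hrev'
        rw [← hrevpow, hμeq, reverse_mul_of_domain]
        exact dvd_mul_right _ _
      rw [hμeq] at h1
      exact (hcop.symm.pow).dvd_of_dvd_mul_left h1
    obtain ⟨R', hR'⟩ := hra
    have hμeq' : μ = (φ * φ.reverse) ^ a * R' := by rw [hμeq, hR', mul_pow, mul_assoc]
    have hrr : (φ * φ.reverse).reverse = φ * φ.reverse := by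
      rw [reverse_mul_of_domain, reverse_reverse_eq hφc, mul_comm]
    have hrrpow : ((φ * φ.reverse) ^ a).reverse = (φ * φ.reverse) ^ a := by
      rw [mul_pow, reverse_mul_of_domain, hrevpow, ← hrevpow, reverse_reverse_eq hφac, mul_comm]
    by_cases hRu : IsUnit R'
    · right
      have hd1 : 1 ≤ φ.natDegree := hirr.natDegree_pos
      have hdle : φ.natDegree * a ≤ n := by
        have h := natDegree_le_of_dvd (Dvd.intro R' hμeq'.symm) hμ0
        rw [natDegree_pow, natDegree_mul hirr.ne_zero hφr.ne_zero, natDegree_reverse_eq hφc] at h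
        have h' := h.trans hdeg
        rw [mul_add, mul_comm a] at h'
        omega
      have : Fact (Irreducible φ) := ⟨hirr⟩
      have hX : ¬ φ ∣ Polynomial.X := fun hX => by
        have h' := (hirr.associated_of_dvd irreducible_X hX).symm.dvd
        exact hφc (X_dvd_iff.1 h')
      obtain ⟨c, hc⟩ : Odd (Fintype.card F ^ φ.natDegree) :=
        (Nat.odd_iff.2 (odd_card_of_two_ne h2)).pow
      obtain ⟨ν, hν, hdv⟩ := exists_sign_dvd (φ := φ) (k := (Fintype.card F ^ φ.natDegree - 1) / 2) (by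
        rw [← pow_add, show (Fintype.card F ^ φ.natDegree - 1) / 2 + (Fintype.card F ^ φ.natDegree - 1) / 2
          = Fintype.card F ^ φ.natDegree - 1 by omega]
        have := PSLOrders.root_pow_card_sub_one (φ := φ) hX
        rwa [PSLOrders.cyc_mul _ _ Fintype.card_pos] at this)
      have hdv' : φ.reverse ∣ Polynomial.X ^ ((Fintype.card F ^ φ.natDegree - 1) / 2) - C ν := by
        set k := (Fintype.card F ^ φ.natDegree - 1) / 2
        obtain ⟨w, hw⟩ := hdv
        have hk : 1 ≤ k := by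
          have : 3 ≤ Fintype.card F ^ φ.natDegree := by
            have h3 : 2 ≤ Fintype.card F := Fintype.one_lt_card
            have h4 := Nat.le_self_pow (show φ.natDegree ≠ 0 by omega) (Fintype.card F)
            omega
          omega
        have hXk : (Polynomial.X ^ k - C ν).reverse = C (-ν) * (Polynomial.X ^ k - C ν) := by
          rw [reverse, natDegree_X_pow_sub_C, reflect_sub, reflect_C, show (Polynomial.X : F[X]) ^ k =
            C 1 * Polynomial.X ^ k by rw [map_one, one_mul], reflect_C_mul_X_pow, revAt_le le_rfl,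
            Nat.sub_self, pow_zero, map_one, one_mul, map_neg, mul_sub, one_mul]
          rw [show (-C ν * C ν : F[X]) = -1 by rw [neg_mul, ← C_mul, hν, map_one]]
          ring
        have h5 : φ.reverse ∣ C (-ν) * (Polynomial.X ^ k - C ν) := by
          rw [← hXk, hw, reverse_mul_of_domain]; exact dvd_mul_right _ _
        have hνu : IsUnit (C (-ν)) := isUnit_C.2 (isUnit_iff_ne_zero.2 fun h => by
          rw [neg_eq_zero] at h; rw [h, mul_zero] at hν; exact zero_ne_one hν)
        exact hνu.dvd_mul_left.1 h5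
      exact ⟨φ * φ.reverse, a, _, ν, ha, hfin (k := 0) (ν := ν) hμeq' hRu, hcop.mul_dvd hdv hdv', hν,
        Or.inr ⟨φ.natDegree, hd1, hdle, Or.inl rfl⟩⟩
    · left
      have h1 : ¬ φ ∣ R' := fun h => hR (hR' ▸ h.mul_left _)
      have h2' : ¬ φ.reverse ∣ R' := by
        intro hdiv
        apply h1
        obtain ⟨S, hS⟩ := hdiv
        have hμS : μ = (φ ^ a * φ.reverse ^ (a + 1)) * S := by rw [hμeq', hS, mul_pow]; ring
        have h3 : φ ^ (a + 1) ∣ μ := by
          refine dvd_trans ?_ hrev'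
          rw [hμS, reverse_mul_of_domain, reverse_mul_of_domain, pow_succ φ.reverse, reverse_mul_of_domain,
            ← hrevpow, reverse_reverse_eq hφac, reverse_reverse_eq hφc, pow_succ]
          exact (dvd_mul_left _ _).trans (dvd_mul_right _ _)
        rw [hμeq', mul_pow, mul_assoc, pow_succ,
          mul_dvd_mul_iff_left (pow_ne_zero a hirr.ne_zero)] at h3
        exact (hcop.pow_right).dvd_of_dvd_mul_left h3
      refine exists_involution h2 X (((hirr.coprime_iff_not_dvd.2 h1).mul_left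
        (hφr.coprime_iff_not_dvd.2 h2')).pow_left) hμeq' ?_ hRu (by rw [hrrpow]) ?_
      · exact fun hu => hirr.not_isUnit
          (isUnit_of_dvd_unit ((dvd_mul_right φ φ.reverse).trans (dvd_pow_self _ (by omega))) hu)
      · exact hco hμeq' (pow_ne_zero _ (mul_ne_zero hirr.ne_zero hφr.ne_zero)) (by rw [hrrpow])

end finite

end CfsgLib.SpecSp
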