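import Mathlib
import Cfsg.Agent.Lib.SpecSp.Classify
import Cfsg.Agent.Lib.SpecLin.PrimeGraph
import Cfsg.Agent.Lib.Sp.Card

/-!
Adjacency of odd primes in the prime graph of `PSp_2n(q)`, any characteristic.
-/

set_option autoImplicit false

namespace CfsgLib.SpecSp.PrimeGraph

open Matrix Polynomial CfsgLib.SpecLin

variable {F : Type*} [Field F] [Fintype F] {n : ℕ}

local notation "Sp[" k "]" => Matrix.symplecticGroup (Fin k) F
local notation "q" => Fintype.card F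
local notation "ord[" r "]" => orderOf ((Fintype.card F : ℕ) : ZMod r)

/-- `η(k)` -/
def IsEta (k a : ℕ) : Prop := (Odd k ∧ a = k) ∨ (Even k ∧ 2 * a = k)

section arith

variable {r : ℕ} [Fact r.Prime]

theorem dvd_pow_sub_one_iff {m : ℕ} :
    r ∣ q ^ m - 1 ↔ ((Fintype.card F : ℕ) : ZMod r) ^ m = 1 := by
  rw [← ZMod.natCast_eq_zero_iff, Nat.cast_sub (Nat.one_le_pow _ _ Fintype.card_pos),
    Nat.cast_pow, Nat.cast_one, sub_eq_zero]

theorem dvd_pow_add_one_iff {m : ℕ} :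
    r ∣ q ^ m + 1 ↔ ((Fintype.card F : ℕ) : ZMod r) ^ m = -1 := by
  rw [← ZMod.natCast_eq_zero_iff, Nat.cast_add, Nat.cast_pow, Nat.cast_one,
    add_eq_zero_iff_eq_neg]

/-- The torus order divisible by `r`, for `h = η(k)·t` with `t` odd. -/
theorem dvd_torus {k a t : ℕ} (hk : k = ord[r]) (hk0 : k ≠ 0) (ha : IsEta k a) (ht : Odd t) :
    (Odd k ∧ r ∣ q ^ (a * t) - 1) ∨ (Even k ∧ r ∣ q ^ (a * t) + 1) := by
  rcases ha with ⟨ho, rfl⟩ | ⟨he, h2⟩
  · refine Or.inl ⟨ho, dvd_pow_sub_one_iff.2 ?_⟩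
    rw [pow_mul, hk, pow_orderOf_eq_one, one_pow]
  · refine Or.inr ⟨he, dvd_pow_add_one_iff.2 ?_⟩
    set x := ((Fintype.card F : ℕ) : ZMod r)
    have hsq : x ^ a * x ^ a = 1 := by rw [← pow_add, ← two_mul, h2, hk, pow_orderOf_eq_one]
    have hne : x ^ a ≠ 1 := fun h => by
      have h' := Nat.le_of_dvd (by omega) (orderOf_dvd_of_pow_eq_one h)
      omega
    rw [pow_mul, (mul_self_eq_one_iff.1 hsq).resolve_left hne, ht.neg_one_pow]

/-- From `q^j = -1`. -/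
theorem of_dvd_pow_add_one {k j : ℕ} (hk : k = ord[r]) (hr2 : r ≠ 2) (h : r ∣ q ^ j + 1) :
    k ∣ 2 * j ∧ ¬ k ∣ j := by
  set x := ((Fintype.card F : ℕ) : ZMod r)
  have h1 : x ^ j = -1 := dvd_pow_add_one_iff.1 h
  refine ⟨hk ▸ orderOf_dvd_of_pow_eq_one (by rw [mul_comm, pow_mul, h1, neg_one_sq]), fun hd => ?_⟩
  have h2 : x ^ j = 1 := orderOf_dvd_iff_pow_eq_one.1 (hk ▸ hd)
  have : Fact (2 < r) := ⟨by have := (Fact.out : r.Prime).two_le; omega⟩
  exact ZMod.neg_one_ne_one (h1.symm.trans h2)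

theorem even_of_dvd_two_mul {k j : ℕ} (h1 : k ∣ 2 * j) (h2 : ¬ k ∣ j) : Even k := by
  by_contra h
  exact h2 ((Nat.coprime_two_right.2 (Nat.not_even_iff_odd.1 h)).dvd_mul_left.1 h1)

/-- `η(k) ≤ n` when `r` divides the order of the group. -/
theorem eta_le (p : ℕ) [Fact p.Prime] [CharP F p] (hrp : r ≠ p) (h : r ∣ Nat.card (Cfsg.PSp n F))
    {k a : ℕ} (hk : k = ord[r]) (ha : IsEta k a) : a ≤ n ∧ k ≠ 0 := by
  have h1 : r ∣ q ^ n ^ 2 * ∏ i ∈ Finset.range n, (q ^ (2 * (i + 1)) - 1) := by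
    rw [← CfsgLib.Sp.card_symplecticGroup rfl,
      Subgroup.card_eq_card_quotient_mul_card_subgroup (Subgroup.center Sp[n])]
    exact h.mul_right _
  have hr : r.Prime := Fact.out
  rcases hr.dvd_mul.1 h1 with h' | h'
  · obtain ⟨f, hfp, hf⟩ := FiniteField.card F p
    rw [hf] at h'
    exact absurd ((Nat.prime_dvd_prime_iff_eq hr hfp).1
      (hr.dvd_of_dvd_pow (hr.dvd_of_dvd_pow h'))) hrp
  · obtain ⟨i, hi, hi'⟩ := (Prime.dvd_finsetProd_iff hr.prime _).1 h'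
    rw [Finset.mem_range] at hi
    have hd : k ∣ 2 * (i + 1) := hk ▸ orderOf_dvd_of_pow_eq_one (dvd_pow_sub_one_iff.1 hi')
    have hk0 : k ≠ 0 := fun h0 => by rw [h0, zero_dvd_iff] at hd; omega
    refine ⟨?_, hk0⟩
    rcases ha with ⟨ho, rfl⟩ | ⟨he, h2⟩
    · have := Nat.le_of_dvd (by omega) ((Nat.coprime_two_right.2 ho).dvd_mul_left.1 hd)
      omega
    · have := Nat.le_of_dvd (by omega) hd
      omega

end arith

section witness

omit [Fintype F] in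
theorem bsum_injective {a b : ℕ} (h : a + b = n) : Function.Injective (bsum (F := F) h) := by
  rintro ⟨A, B⟩ ⟨A', B'⟩ he
  have h' := congrArg (fun T => T.submatrix (sumIdx h) (sumIdx h)) (congrArg Subtype.val he)
  simp only [bsum_val, Matrix.submatrix_submatrix, Equiv.symm_comp_self, Matrix.submatrix_id_id] at h'
  obtain ⟨h1, -, -, h2⟩ := Matrix.fromBlocks_inj.1 h'
  exact Prod.ext (Subtype.ext h1) (Subtype.ext h2)

omit [Fintype F] in
/-- Padding with the identity. -/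
theorem exists_pad {a : ℕ} (ha : a ≤ n) (T : Sp[a]) : ∃ M : Sp[n], orderOf M = orderOf T := by
  refine ⟨bsum (show a + (n - a) = n by omega) (T, 1), ?_⟩
  rw [orderOf_injective _ (bsum_injective _), Prod.orderOf, orderOf_one, Nat.lcm_one_right]

omit [Fintype F] in
theorem exists_sum {a b : ℕ} (hab : a + b ≤ n) (T : Sp[a]) (U : Sp[b]) :
    ∃ M : Sp[n], orderOf M = Nat.lcm (orderOf T) (orderOf U) := by
  obtain ⟨U', hU⟩ := exists_pad (show b ≤ n - a by omega) U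
  refine ⟨bsum (show a + (n - a) = n by omega) (T, U'), ?_⟩
  rw [orderOf_injective _ (bsum_injective _), Prod.orderOf, hU]

/-- A cyclic torus whose order is divisible by `r`. -/
theorem exists_torus {r : ℕ} [Fact r.Prime] {k a t : ℕ} (hk : k = ord[r]) (hk0 : k ≠ 0)
    (ha : IsEta k a) (ht : Odd t) :
    ∃ T : Sp[a * t], r ∣ orderOf T ∧
      orderOf T = if Odd k then q ^ (a * t) - 1 else q ^ (a * t) + 1 := by
  have hat : 1 ≤ a * t := by
    have h1 : 1 ≤ a := by rcases ha with ⟨-, rfl⟩ | ⟨-, h⟩ <;> omega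
    exact Nat.one_le_iff_ne_zero.2 (Nat.mul_ne_zero (by omega) ht.pos.ne')
  rcases dvd_torus hk hk0 ha ht with ⟨ho, hd⟩ | ⟨he, hd⟩
  · obtain ⟨T, hT⟩ := exists_torus_minus (F := F) hat
    exact ⟨T, hT ▸ hd, by rw [if_pos ho, hT]⟩
  · obtain ⟨T, hT⟩ := exists_torus_plus' (F := F) hat
    exact ⟨T, hT ▸ hd, by rw [if_neg (Nat.not_odd_iff_even.2 he), hT]⟩

/-- Orders prime to the centre survive. -/
theorem exists_order_iff {m : ℕ} (hn : 1 ≤ n) (hm : Nat.Coprime m (Nat.gcd 2 (q - 1))) :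
    m ∈ Set.range (orderOf : Cfsg.PSp n F → ℕ) ↔ ∃ M : Sp[n], m ∣ orderOf M := by
  constructor
  · rintro ⟨g, rfl⟩
    obtain ⟨M, rfl⟩ := QuotientGroup.mk_surjective g
    exact ⟨M, orderOf_map_dvd (QuotientGroup.mk' (Subgroup.center Sp[n])) M⟩
  · rintro ⟨M, hM⟩
    have h1 : M ^ orderOf (QuotientGroup.mk M : Cfsg.PSp n F) ∈ Subgroup.center Sp[n] := by
      rw [← QuotientGroup.eq_one_iff, QuotientGroup.mk_pow, pow_orderOf_eq_one]
    have h2 := congrArg Subtype.val (pow_card_eq_one' (x :=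
      (⟨_, h1⟩ : Subgroup.center Sp[n])))
    rw [SubgroupClass.coe_pow, OneMemClass.coe_one, ← pow_mul,
      CfsgLib.Sp.card_center rfl hn] at h2
    exact exists_orderOf_eq_of_dvd (orderOf_pos _).ne'
      (hm.dvd_mul_right.1 (hM.trans (orderOf_dvd_of_pow_eq_one h2)))

end witness

section factors

omit [Fintype F] in
theorem natDegree_minpoly_le (X : Sp[n]) : (minpoly F X.1).natDegree ≤ 2 * n := by
  have h := natDegree_le_of_dvd (Matrix.minpoly_dvd_charpoly X.1) X.1.charpoly_monic.ne_zero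
  simpa [Matrix.charpoly_natDegree_eq_dim, two_mul] using h

omit [Fintype F] in
theorem reverse_minpoly_dvd (hn : 1 ≤ n) (X : Sp[n]) :
    (minpoly F X.1).reverse ∣ minpoly F X.1 := by
  have : Nonempty (Fin n) := ⟨⟨0, hn⟩⟩
  have h0 := coeff_zero_minpoly_ne_zero X
  refine (Polynomial.associated_of_dvd_of_natDegree_le (minpoly_dvd_reverse X) ?_ ?_).symm.dvd
  · rw [Ne, reverse_eq_zero]
    exact minpoly.ne_zero (Matrix.isIntegral X.1)
  · rw [natDegree_reverse_eq h0]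

omit [Fintype F] in
theorem reverse_dvd_X_pow_sub_one {g : F[X]} {m : ℕ} (h : g ∣ Polynomial.X ^ m - 1) :
    g.reverse ∣ Polynomial.X ^ m - 1 := by
  rcases Nat.eq_zero_or_pos m with rfl | hm
  · simp
  obtain ⟨c, hc⟩ := h
  have h1 : (Polynomial.X ^ m - 1 : F[X]).reverse = -(Polynomial.X ^ m - 1) := by
    rw [reverse, ← map_one (C : F →+* F[X]), natDegree_X_pow_sub_C, reflect_sub, reflect_C,
      show (Polynomial.X : F[X]) ^ m = C 1 * Polynomial.X ^ m by rw [map_one, one_mul],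
      reflect_C_mul_X_pow, revAt_le le_rfl, Nat.sub_self, pow_zero]
    simp
  rw [← dvd_neg, ← h1, hc, reverse_mul_of_domain]
  exact dvd_mul_right _ _

omit [Fintype F] in
theorem coeff_zero_of_dvd_X_pow_sub_one {g : F[X]} {m : ℕ} (hm : 1 ≤ m)
    (h : g ∣ Polynomial.X ^ m - 1) : g.coeff 0 ≠ 0 := by
  refine coeff_zero_ne_zero_of_dvd h ?_
  rw [coeff_sub, coeff_X_pow, coeff_one_zero, if_neg (by omega), zero_sub]
  exact neg_ne_zero.2 one_ne_zero

omit [Fintype F] in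
theorem prime_dvd_orderOf_root {g : F[X]} {a b r : ℕ} (hr : r.Prime) (hab : a = r * b)
    (ha : g ∣ Polynomial.X ^ a - 1) (hb : ¬ g ∣ Polynomial.X ^ b - 1) :
    r ∣ orderOf (AdjoinRoot.root g) := by
  have h1 : AdjoinRoot.root g ^ a = 1 := by
    rwa [← AdjoinRoot.mk_eq_zero, map_sub, map_pow, AdjoinRoot.mk_X, map_one, sub_eq_zero] at ha
  by_contra h
  apply hb
  rw [← AdjoinRoot.mk_eq_zero, map_sub, map_pow, AdjoinRoot.mk_X, map_one, sub_eq_zero,
    ← orderOf_dvd_iff_pow_eq_one]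
  exact ((hr.coprime_iff_not_dvd.2 h).symm).dvd_mul_left.1 (hab ▸ orderOf_dvd_of_pow_eq_one h1)

/-- A self-reciprocal factor. -/
theorem self_case {g : F[X]} {a b r : ℕ} (hr : r.Prime) (hr2 : r ≠ 2) (hab : a = r * b)
    (ha0 : 1 ≤ a) (hg : Irreducible g) (ha : g ∣ Polynomial.X ^ a - 1)
    (hb : ¬ g ∣ Polynomial.X ^ b - 1) (hself : g ∣ g.reverse) :
    ∃ j, 1 ≤ j ∧ g.natDegree = 2 * j ∧ r ∣ q ^ j + 1 := by
  have hro := prime_dvd_orderOf_root hr hab ha hb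
  rcases self_reciprocal' hg (coeff_zero_of_dvd_X_pow_sub_one ha0 ha) hself with h | ⟨j, hj, hd, h⟩
  · have := Nat.le_of_dvd two_pos (hro.trans (orderOf_dvd_of_pow_eq_one h))
    have := hr.two_le
    omega
  · exact ⟨j, hj, hd, hro.trans (orderOf_dvd_of_pow_eq_one h)⟩

omit [Fintype F] in
/-- A factor which is not self-reciprocal. -/
theorem pair_dvd {g : F[X]} (hn : 1 ≤ n) (X : Sp[n]) (hg : Irreducible g)
    (hgμ : g ∣ minpoly F X.1) (hns : ¬ g ∣ g.reverse) :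
    g * g.reverse ∣ minpoly F X.1 ∧ (g * g.reverse).natDegree = 2 * g.natDegree := by
  have hg0 : g.coeff 0 ≠ 0 := coeff_zero_ne_zero_of_dvd hgμ (coeff_zero_minpoly_ne_zero X)
  refine ⟨(hg.coprime_iff_not_dvd.2 hns).mul_dvd hgμ ?_, ?_⟩
  · refine dvd_trans ?_ (reverse_minpoly_dvd hn X)
    obtain ⟨c, hc⟩ := hgμ
    rw [hc, reverse_mul_of_domain]
    exact dvd_mul_right _ _
  · rw [natDegree_mul hg.ne_zero (irreducible_reverse hg hg0).ne_zero, natDegree_reverse_eq hg0,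
      two_mul]

/-- The self-reciprocal divisor of degree at least `2η(k)` attached to a factor. -/
theorem eta_bound {r : ℕ} [hr : Fact r.Prime] (hr2 : r ≠ 2) {k a : ℕ} (hk : k = ord[r])
    (hη : IsEta k a) {N b : ℕ} (hN : N = r * b) (hN0 : 1 ≤ N) (hn : 1 ≤ n) (X : Sp[n]) {g : F[X]}
    (hg : Irreducible g) (hgμ : g ∣ minpoly F X.1) (hgN : g ∣ Polynomial.X ^ N - 1)
    (hgb : ¬ g ∣ Polynomial.X ^ b - 1) :
    ∃ P : F[X], P ∣ minpoly F X.1 ∧ 2 * a ≤ P.natDegree ∧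
      (∀ f, g ∣ f → g.reverse ∣ f → P ∣ f) ∧
      (∀ f, ¬ g ∣ f → ¬ g.reverse ∣ f → IsCoprime P f) := by
  obtain ⟨hdvd, hk0⟩ := CfsgLib.SpecLin.PrimeGraph.order_dvd_natDegree hg hN hgN hgb (by omega)
  rw [← hk] at hdvd hk0
  by_cases hself : g ∣ g.reverse
  · obtain ⟨j, hj, hd, hrj⟩ := self_case hr.out hr2 hN hN0 hg hgN hgb hself
    obtain ⟨h1, h2⟩ := of_dvd_pow_add_one hk hr2 hrj
    have he := even_of_dvd_two_mul h1 h2
    have hak : 2 * a = k := (hη.resolve_left fun h => (Nat.not_even_iff_odd.2 h.1) he).2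
    refine ⟨g, hgμ, ?_, fun f h _ => h, fun f h _ => hg.coprime_iff_not_dvd.2 h⟩
    rw [hak]
    exact Nat.le_of_dvd hg.natDegree_pos hdvd
  · obtain ⟨hpair, hdeg⟩ := pair_dvd hn X hg hgμ hself
    have hg0 : g.coeff 0 ≠ 0 := coeff_zero_of_dvd_X_pow_sub_one hN0 hgN
    refine ⟨g * g.reverse, hpair, ?_,
      fun f h h' => (hg.coprime_iff_not_dvd.2 hself).mul_dvd h h', fun f h h' => ?_⟩
    · have := Nat.le_of_dvd hg.natDegree_pos hdvd
      rcases hη with ⟨-, rfl⟩ | ⟨-, h⟩ <;> omega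
    · exact (hg.coprime_iff_not_dvd.2 h).mul_left
        ((irreducible_reverse hg hg0).coprime_iff_not_dvd.2 h')

omit [Fintype F] in
theorem minpoly_dvd_X_pow_sub_one {X : Sp[n]} {m : ℕ} (h : orderOf X ∣ m) :
    minpoly F X.1 ∣ Polynomial.X ^ m - 1 := by
  refine minpoly.dvd F X.1 ?_
  rw [map_sub, map_pow, aeval_X, map_one, ← SubmonoidClass.coe_pow,
    orderOf_dvd_iff_pow_eq_one.1 h, OneMemClass.coe_one, sub_self]

omit [Fintype F] in
theorem orderOf_dvd_of_minpoly_dvd {X : Sp[n]} {m : ℕ}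
    (h : minpoly F X.1 ∣ Polynomial.X ^ m - 1) : orderOf X ∣ m := by
  obtain ⟨t, ht⟩ := h
  have h' := congrArg (aeval X.1) ht
  rw [map_mul, minpoly.aeval, zero_mul, map_sub, map_pow, aeval_X, map_one, sub_eq_zero] at h'
  exact orderOf_dvd_of_pow_eq_one (Subtype.ext (by rw [SubmonoidClass.coe_pow]; exact h'))

end factors

end CfsgLib.SpecSp.PrimeGraph
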