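import Mathlib
import Cfsg.Agent.Lib.SpecSp.Classify

/-!
PSp_2n(q): order bound and witnesses `torus ⊕ regular unipotent`.
-/

set_option autoImplicit false

namespace CfsgLib.SpecSp

open Matrix Polynomial CfsgLib.SpecLin

variable {F : Type*} [Field F] [Fintype F] {n : ℕ}

local notation "Sp[" k "]" => Matrix.symplecticGroup (Fin k) F

theorem orderOf_mk_dvd_of_primary (p : ℕ) [Fact p.Prime] [CharP F p] {X : Sp[n]} {P : F[X]} {e k c : ℕ}
    {ν : F} (hP : aeval X.1 (P ^ e) = 0) (hν : P ∣ Polynomial.X ^ k - C ν) (hνν : ν * ν = 1)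
    (hc : e ≤ p ^ c) : orderOf (QuotientGroup.mk X : Cfsg.PSp n F) ∣ k * p ^ c := by
  obtain ⟨t, ht⟩ := hν
  rcases Nat.eq_zero_or_pos n with hn | hn
  · subst hn
    exact orderOf_mk_dvd_of_pow_eq_sign (s := 1) (one_mul 1) (Subsingleton.elim _ _)
  have : Nonempty (Fin n ⊕ Fin n) := ⟨Sum.inl ⟨0, hn⟩⟩
  have h0 : (X.1 ^ k - ν • 1) ^ p ^ c = 0 := by
    have h1 : aeval X.1 ((Polynomial.X ^ k - C ν) ^ p ^ c) = 0 := by
      rw [ht, mul_pow, map_mul, ← Nat.add_sub_cancel' hc, pow_add, map_mul, hP]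
      simp
    simpa [Algebra.algebraMap_eq_smul_one] using h1
  apply orderOf_mk_dvd_of_pow_eq_sign (s := ν ^ p ^ c) (by rw [← mul_pow, hνν, one_pow])
  rw [sub_pow_char_pow_of_commute _ _ ((Commute.one_right _).smul_right _), sub_eq_zero,
    _root_.smul_pow, one_pow, ← pow_mul] at h0
  exact h0

/-- `T ⊕ U` keeps the orders of `T` and of the unipotent part. -/
theorem orderOf_mk_bsum {a b : ℕ} (hab : a + b = n) {T : Sp[a]} {U : Sp[b]}
    (hU : ∀ (j : ℕ) (s : F), U.1 ^ j = s • 1 → s = 1) :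
    Nat.lcm (orderOf T) (orderOf U) ∣ orderOf (QuotientGroup.mk (bsum hab (T, U)) : Cfsg.PSp n F) := by
  obtain ⟨s, -, hs⟩ := exists_sign_pow (bsum hab (T, U))
  set o := orderOf (QuotientGroup.mk (bsum hab (T, U)) : Cfsg.PSp n F)
  rw [← SubmonoidClass.coe_pow, ← map_pow] at hs
  obtain ⟨h1, h2⟩ := bsum_eq_smul_one hab hs
  simp only [Prod.pow_fst, Prod.pow_snd, SubmonoidClass.coe_pow] at h1 h2
  have hs1 := hU o s h2
  rw [hs1, one_smul] at h1 h2
  refine Nat.lcm_dvd (orderOf_dvd_of_pow_eq_one (Subtype.ext ?_)) (orderOf_dvd_of_pow_eq_one (Subtype.ext ?_))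
  · rw [SubmonoidClass.coe_pow]; exact h1
  · rw [SubmonoidClass.coe_pow]; exact h2

/-- Witness of order a multiple of `lcm (q^h ± 1) (p^c)`. -/
theorem exists_witness (p : ℕ) [Fact p.Prime] [CharP F p] (h2 : (2 : F) ≠ 0) {h N c : ℕ} (hh : 1 ≤ h)
    (hhn : h < n) (hN : N = Fintype.card F ^ h - 1 ∨ N = Fintype.card F ^ h + 1)
    (hc : c = 0 ∨ p ^ (c - 1) < 2 * (n - h)) :
    ∃ g : Cfsg.PSp n F, Nat.lcm N (p ^ c) ∣ orderOf g := by
  obtain ⟨T, hT⟩ : ∃ T : Sp[h], orderOf T = N := by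
    rcases hN with rfl | rfl
    · exact exists_torus_minus hh
    · exact exists_torus_plus h2 hh
  obtain ⟨U, hU, hUs⟩ := exists_regUnip_order (F := F) p (k := n - h) (by omega) hc
  refine ⟨QuotientGroup.mk (bsum (show h + (n - h) = n by omega) (T, U)), ?_⟩
  refine dvd_trans ?_ (orderOf_mk_bsum _ hUs)
  rw [hT]
  exact Nat.lcm_dvd (Nat.dvd_lcm_left _ _) (hU.trans (Nat.dvd_lcm_right _ _))

/-- The maximal torus elements of order `(q^n ± 1)/2`. -/
theorem exists_top_torus (h2 : (2 : F) ≠ 0) (hn : 1 ≤ n) {N : ℕ}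
    (hN : N = Fintype.card F ^ n - 1 ∨ N = Fintype.card F ^ n + 1) :
    ∃ g : Cfsg.PSp n F, N / 2 ∣ orderOf g := by
  obtain ⟨T, hT⟩ : ∃ T : Sp[n], orderOf T = N := by
    rcases hN with rfl | rfl
    · exact exists_torus_minus hn
    · exact exists_torus_plus h2 hn
  obtain ⟨c, hc⟩ : Odd (Fintype.card F ^ n) := (Nat.odd_iff.2 (odd_card_of_two_ne h2)).pow
  refine ⟨QuotientGroup.mk T, ?_⟩
  have h := orderOf_dvd_two_mul T
  rw [hT] at h
  rw [Nat.div_dvd_iff_dvd_mul (by rcases hN with rfl | rfl <;> omega) two_pos]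
  exact h

/-- The regular unipotent element in the projective group. -/
theorem exists_unipotent (p : ℕ) [Fact p.Prime] [CharP F p] (hn : 1 ≤ n) {c : ℕ}
    (hc : c = 0 ∨ p ^ (c - 1) < 2 * n) : ∃ g : Cfsg.PSp n F, p ^ c ∣ orderOf g := by
  obtain ⟨U, hU, hUs⟩ := exists_regUnip_order (F := F) p (k := n) hn hc
  refine ⟨QuotientGroup.mk U, hU.trans (orderOf_dvd_of_pow_eq_one (Subtype.ext ?_))⟩
  obtain ⟨s, -, hs⟩ := exists_sign_pow U
  rw [hUs _ s hs, one_smul] at hs
  rw [SubmonoidClass.coe_pow]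
  exact hs

/-- Every element is extendable by 2, or divides the odd one of `(q^n ± 1)/2`, or is regular unipotent. -/
theorem classify (p : ℕ) [Fact p.Prime] [CharP F p] (h2 : (2 : F) ≠ 0) (hn : 2 ≤ n) {M₀ : ℕ}
    (hM : ∀ N, (N = Fintype.card F ^ n - 1 ∨ N = Fintype.card F ^ n + 1) → 2 ∣ N / 2 ∨ N / 2 = M₀)
    (g : Cfsg.PSp n F) :
    (∃ h : Cfsg.PSp n F, Nat.lcm 2 (orderOf g) ∣ orderOf h) ∨ orderOf g ∣ M₀ ∨
      ∃ j : ℕ, 2 * n - 1 = p ^ j ∧ orderOf g ∣ p ^ (j + 1) := by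
  obtain ⟨X, rfl⟩ := QuotientGroup.mk_surjective g
  rcases dichotomy h2 (by omega) X with ⟨Z, hZ, hZc, hcomm⟩ | ⟨P, e, k, ν, he, hP, hdv, hν, hcase⟩
  · left
    set o := orderOf (QuotientGroup.mk X : Cfsg.PSp n F)
    by_cases ho : 2 ∣ o
    · exact ⟨_, Nat.lcm_dvd ho dvd_rfl⟩
    have hz : orderOf (QuotientGroup.mk Z : Cfsg.PSp n F) = 2 := by
      refine orderOf_eq_prime ?_ fun h => hZc ((QuotientGroup.eq_one_iff Z).1 h)
      rw [← QuotientGroup.mk_pow, hZ, QuotientGroup.mk_one]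
    have hc : Commute (QuotientGroup.mk X : Cfsg.PSp n F) (QuotientGroup.mk Z) :=
      hcomm.map (QuotientGroup.mk' _)
    refine ⟨(QuotientGroup.mk X : Cfsg.PSp n F) * QuotientGroup.mk Z, ?_⟩
    rw [hc.orderOf_mul_eq_mul_orderOf_of_coprime
      (by rw [hz]; exact (Nat.prime_two.coprime_iff_not_dvd.2 ho).symm), hz]
    exact Nat.lcm_dvd (dvd_mul_left _ _) (dvd_mul_right _ _)
  have hp1 : 1 < p := (Fact.out : p.Prime).one_lt
  have hpodd : Odd p := by
    refine (Fact.out : p.Prime).odd_of_ne_two ?_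
    rintro rfl
    exact h2 (by exact_mod_cast CharP.cast_eq_zero F 2)
  set c := Nat.clog p e
  have hcl : c = 0 ∨ p ^ (c - 1) < e := by
    rcases Nat.eq_zero_or_pos c with h | h
    · exact Or.inl h
    · refine Or.inr (Nat.pow_pred_clog_lt_self hp1 ?_)
      by_contra h'
      exact h.ne' (Nat.clog_of_right_le_one (by omega) p)
  have hbound := orderOf_mk_dvd_of_primary p (c := c) hP hdv hν (Nat.le_pow_clog hp1 e)
  obtain ⟨cq, hcq⟩ : Odd (Fintype.card F ^ 1) := (Nat.odd_iff.2 (odd_card_of_two_ne h2)).pow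
  have hq3 : 3 ≤ Fintype.card F := by
    have := Fintype.one_lt_card (α := F)
    rw [pow_one] at hcq
    omega
  rcases hcase with ⟨rfl, he2⟩ | ⟨h, hh, hhe, hk⟩
  · rw [one_mul] at hbound
    by_cases hs : c = 0 ∨ p ^ (c - 1) < 2 * (n - 1)
    · left
      obtain ⟨w, hw⟩ := exists_witness p h2 (n := n) (h := 1) le_rfl (by omega) (Or.inl rfl) hs
      refine ⟨w, (Nat.lcm_dvd ?_ ?_).trans hw⟩
      · refine dvd_trans ?_ (Nat.dvd_lcm_left _ _)
        rw [pow_one] at hcq ⊢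
        exact ⟨cq, by omega⟩
      · exact hbound.trans (Nat.dvd_lcm_right _ _)
    · push Not at hs
      have hlt := hcl.resolve_left hs.1
      obtain ⟨w, hw⟩ : Odd (p ^ (c - 1)) := hpodd.pow
      refine Or.inr (Or.inr ⟨c - 1, by omega, ?_⟩)
      rwa [Nat.sub_add_cancel (Nat.pos_of_ne_zero hs.1)]
  · rcases Nat.lt_or_ge h n with hlt | hge
    · left
      set N := if k = (Fintype.card F ^ h - 1) / 2 then Fintype.card F ^ h - 1 else Fintype.card F ^ h + 1
        with hNdef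
      obtain ⟨w', hw'⟩ : Odd (Fintype.card F ^ h) := (Nat.odd_iff.2 (odd_card_of_two_ne h2)).pow
      have hN : N = Fintype.card F ^ h - 1 ∨ N = Fintype.card F ^ h + 1 := by
        simp only [hNdef]; split_ifs <;> simp
      have hN2 : N = 2 * k := by
        simp only [hNdef]; split_ifs with hk' <;> omega
      have hc' : c = 0 ∨ p ^ (c - 1) < 2 * (n - h) := by
        rcases hcl with h0 | hlt'
        · exact Or.inl h0
        · refine Or.inr (lt_of_lt_of_le hlt' ?_)
          have he2 : 2 ≤ e := by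
            have := Nat.one_le_pow (c - 1) p (by omega)
            omega
          obtain ⟨a, rfl⟩ : ∃ a, h = a + 1 := ⟨h - 1, by omega⟩
          obtain ⟨b, rfl⟩ : ∃ b, e = b + 2 := ⟨e - 2, by omega⟩
          have : (a + 1) * (b + 2) = a * b + 2 * a + b + 2 := by ring
          omega
      obtain ⟨w, hw⟩ := exists_witness p h2 (n := n) hh hlt hN hc'
      refine ⟨w, (Nat.lcm_dvd ?_ ?_).trans hw⟩
      · exact (hN2 ▸ dvd_mul_right 2 k : 2 ∣ N).trans (Nat.dvd_lcm_left _ _)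
      · refine hbound.trans (Nat.Coprime.mul_dvd_of_dvd_of_dvd ?_ ?_ (Nat.dvd_lcm_right _ _))
        · refine Nat.Coprime.pow_right c ?_
          rw [Nat.coprime_comm, (Fact.out : p.Prime).coprime_iff_not_dvd]
          intro hpk
          have hpN : p ∣ N := hN2 ▸ hpk.mul_left 2
          have hpq : p ∣ Fintype.card F ^ h := dvd_pow
            ((CharP.cast_eq_zero_iff F p _).1 (FiniteField.cast_card_eq_zero F)) (by omega)
          have h1 : p ∣ 1 := by
            rcases hN with hN' | hN'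
            · have := Nat.dvd_sub hpq (hN' ▸ hpN)
              rwa [Nat.sub_sub_self (Nat.one_le_pow _ _ (by omega))] at this
            · have := Nat.dvd_sub (hN' ▸ hpN) hpq
              rwa [Nat.add_sub_cancel_left] at this
          exact absurd (Nat.dvd_one.1 h1) (by omega)
        · exact (hN2 ▸ dvd_mul_left k 2 : k ∣ N).trans (Nat.dvd_lcm_left _ _)
    · -- the top case
      have hhn : h = n := le_antisymm ((Nat.le_mul_of_pos_right h (by omega)).trans hhe) hge
      subst hhn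
      have he1 : e = 1 := by
        have := Nat.le_of_mul_le_mul_left (hhe.trans (mul_one h).ge) (by omega)
        omega
      have hc0 : c = 0 := by
        simp only [c, he1]
        exact Nat.clog_of_right_le_one le_rfl p
      rw [hc0, pow_zero, mul_one] at hbound
      obtain ⟨N, hN, hkN⟩ : ∃ N, (N = Fintype.card F ^ h - 1 ∨ N = Fintype.card F ^ h + 1) ∧ k = N / 2 := by
        rcases hk with hk | hk
        · exact ⟨_, Or.inl rfl, hk⟩
        · exact ⟨_, Or.inr rfl, hk⟩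
      rcases hM N hN with h' | h'
      · left
        obtain ⟨w, hw⟩ := exists_top_torus h2 (n := h) hh hN
        exact ⟨w, (Nat.lcm_dvd h' (hkN ▸ hbound)).trans hw⟩
      · exact Or.inr (Or.inl (by rw [← h', ← hkN]; exact hbound))

end CfsgLib.SpecSp
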